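import Mathlib.RingTheory.MvPowerSeries.Derivative
import Mathlib.RingTheory.LocalRing.MaximalIdeal.Basic
import Mathlib.RingTheory.MvPowerSeries.Substitution
import Mathlib.RingTheory.MvPowerSeries.Inverse
import Mathlib.RingTheory.MvPolynomial.Homogeneous
import Mathlib.Data.Matrix.Basic
import Mathlib.LinearAlgebra.Matrix.NonsingularInverse

/-!
# The formal Morse lemma, in every characteristic
-/

open MvPowerSeries Finsupp

namespace Groth.Agent.SGA7Morse

variable {k : Type} [Field k] {n : ℕ}

local notation "P" => MvPowerSeries (Fin n) k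

/-- No terms of degree `< d`. -/
def Low (d : ℕ) (u : P) : Prop := ∀ m : Fin n →₀ ℕ, m.degree < d → coeff m u = 0

theorem Low.mul {p r : ℕ} {a c : P} (ha : Low p a) (hc : Low r c) : Low (p + r) (a * c) := by
  classical
  intro m hm
  rw [coeff_mul]
  refine Finset.sum_eq_zero fun x hx => ?_
  rw [Finset.HasAntidiagonal.mem_antidiagonal] at hx
  rw [← hx, map_add] at hm
  by_cases h : x.1.degree < p
  · rw [ha _ h, zero_mul]
  · rw [hc _ (by lia), mul_zero]

theorem Low.sum {ι : Type} {s : Finset ι} {d : ℕ} {u : ι → P} (h : ∀ i ∈ s, Low d (u i)) :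
    Low d (∑ i ∈ s, u i) := fun m hm => by
  rw [map_sum]; exact Finset.sum_eq_zero fun i hi => h i hi m hm

theorem Low.smul {d : ℕ} {u : P} (a : k) (h : Low d u) : Low d (a • u) := fun m hm => by
  rw [map_smul, h m hm, smul_zero]

theorem Low.mono {d e : ℕ} {u : P} (h : Low d u) (he : e ≤ d) : Low e u :=
  fun m hm => h m (lt_of_lt_of_le hm he)

/-- Division by the variables: the monomials whose first variable is `j`. -/
noncomputable def div (j : Fin n) (w : P) : P :=
  fun m => if ∀ i < j, m i = 0 then coeff (m + single j 1) w else 0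

theorem coeff_div (j : Fin n) (w : P) (m : Fin n →₀ ℕ) :
    coeff m (div j w) = if ∀ i < j, m i = 0 then coeff (m + single j 1) w else 0 := rfl

theorem sum_X_mul_div (w : P) (hw : constantCoeff w = 0) : ∑ j, X j * div j w = w := by
  classical
  ext m
  simp only [map_sum, X_def, coeff_monomial_mul, one_mul]
  by_cases hm : m = 0
  · subst hm
    rw [coeff_zero_eq_constantCoeff_apply, hw]
    refine Finset.sum_eq_zero fun j _ => if_neg fun h => ?_
    have := h j; simp at this
  · obtain ⟨i₁, hi₁⟩ : ∃ i, m i ≠ 0 := by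
      by_contra! h; exact hm (Finsupp.ext h)
    let s := Finset.univ.filter fun i => m i ≠ 0
    have hs : s.Nonempty := ⟨i₁, Finset.mem_filter.mpr ⟨Finset.mem_univ _, hi₁⟩⟩
    let i₀ := s.min' hs
    have hi₀ : m i₀ ≠ 0 := (Finset.mem_filter.mp (s.min'_mem hs)).2
    have hlt : ∀ i < i₀, m i = 0 := fun i hi => by
      by_contra hne
      exact absurd (s.min'_le i (Finset.mem_filter.mpr ⟨Finset.mem_univ _, hne⟩)) (not_le.mpr hi)
    rw [Finset.sum_eq_single i₀]
    · have hle : single i₀ 1 ≤ m := Finsupp.single_le_iff.mpr (Nat.one_le_iff_ne_zero.mpr hi₀)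
      rw [if_pos hle, coeff_div, if_pos, tsub_add_cancel_of_le hle]
      intro i hi
      rw [Finsupp.tsub_apply, hlt i hi, Nat.zero_sub]
    · intro j _ hj
      split_ifs with h
      · have hjm : m j ≠ 0 := Nat.one_le_iff_ne_zero.mp (Finsupp.single_le_iff.mp h)
        have hij : i₀ < j := lt_of_le_of_ne
          (s.min'_le j (Finset.mem_filter.mpr ⟨Finset.mem_univ _, hjm⟩)) (Ne.symm hj)
        rw [coeff_div, if_neg fun h' => hi₀ ?_]
        have := h' i₀ hij
        rwa [Finsupp.tsub_apply, Finsupp.single_eq_of_ne (ne_of_lt hij), Nat.sub_zero] at this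
      · rfl
    · exact fun h => absurd (Finset.mem_univ _) h

theorem Low.div {d : ℕ} {w : P} (h : Low (d + 1) w) (j : Fin n) : Low d (div j w) := fun m hm => by
  rw [coeff_div]
  split_ifs
  · refine h _ ?_
    rw [map_add, Finsupp.degree_single]
    lia
  · rfl

theorem div_sub (j : Fin n) (v w : P) : div j (v - w) = div j v - div j w := by
  ext m
  simp only [map_sub, coeff_div]
  split_ifs <;> simp

variable (f : MvPowerSeries (Fin n) k)

/-- The matrix of the quadratic part. -/
noncomputable def Qm (a b : Fin n) : k := if a ≤ b then coeff (single a 1 + single b 1) f else 0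

/-- Its symmetrisation. -/
noncomputable def M : Matrix (Fin n) (Fin n) k := Matrix.of fun a b => Qm f a b + Qm f b a

/-- The quadratic form at a tuple. -/
noncomputable def qAt (u v : Fin n → P) : P := ∑ a, ∑ b, Qm f a b • (u a * v b)

theorem coeff_single_pderiv (i b : Fin n) : coeff (single b 1) (pderiv k i f) = M f i b := by
  classical
  rw [coeff_pderiv]
  rcases lt_trichotomy i b with h | h | h
  · rw [M, Matrix.of_apply, Qm, Qm, if_pos h.le, if_neg (not_le.mpr h), add_zero,
      Finsupp.single_eq_of_ne h.ne, add_comm (single i 1)]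
    simp
  · subst h
    rw [M, Matrix.of_apply, Qm, if_pos le_rfl, Finsupp.single_eq_same]
    push_cast
    ring
  · rw [M, Matrix.of_apply, Qm, Qm, if_pos h.le, if_neg (not_le.mpr h), zero_add,
      Finsupp.single_eq_of_ne h.ne']
    simp

theorem isUnit_M (hJ : Ideal.span (Set.range fun i : Fin n => pderiv k i f) = IsLocalRing.maximalIdeal (MvPowerSeries (Fin n) k)) :
    IsUnit (M f).det ∧ ∀ b, coeff (single b 1) f = 0 := by
  classical
  have hmem : ∀ φ : P, φ ∈ IsLocalRing.maximalIdeal P ↔ constantCoeff φ = 0 := fun φ => by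
    rw [IsLocalRing.mem_maximalIdeal, mem_nonunits_iff, isUnit_iff_constantCoeff, isUnit_iff_ne_zero,
      not_not]
  have h0 : ∀ i, constantCoeff (pderiv k i f) = 0 := fun i =>
    (hmem _).mp (hJ ▸ Ideal.subset_span ⟨i, rfl⟩)
  constructor
  · have hX : ∀ j, ∃ g : Fin n → P, ∑ i, g i * pderiv k i f = X j := fun j =>
      (Submodule.mem_span_range_iff_exists_fun (R := P)).mp
        (by change X j ∈ Ideal.span _; rw [hJ, hmem, constantCoeff_X])
    choose g hg using hX
    refine Matrix.isUnit_det_of_left_inverse (B := Matrix.of fun j i => constantCoeff (g j i)) ?_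
    ext j b
    have := congrArg (coeff (single b 1)) (hg j)
    rw [map_sum, coeff_index_single_X] at this
    rw [Matrix.mul_apply, Matrix.one_apply]
    refine Eq.trans (Finset.sum_congr rfl fun i _ => ?_) (this.trans (by split_ifs <;> first | rfl | simp_all))
    rw [Matrix.of_apply, ← coeff_single_pderiv, coeff_mul]
    rw [Finset.sum_eq_single ((0, single b 1) : (Fin n →₀ ℕ) × (Fin n →₀ ℕ))]
    · rw [coeff_zero_eq_constantCoeff_apply]
    · rintro ⟨p, r⟩ hpr hne
      rw [Finset.HasAntidiagonal.mem_antidiagonal] at hpr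
      by_cases hr : r = 0
      · rw [hr, coeff_zero_eq_constantCoeff_apply, h0, mul_zero]
      · exfalso
        have hd := congrArg Finsupp.degree hpr
        rw [map_add, Finsupp.degree_single] at hd
        have : 0 < r.degree := Nat.pos_of_ne_zero fun h => hr ((Finsupp.degree_eq_zero_iff r).mp h)
        have hp : p = 0 := (Finsupp.degree_eq_zero_iff p).mp (by lia)
        exact hne (by rw [hp, ← hpr, hp]; simp)
    · intro h
      exact absurd (Finset.HasAntidiagonal.mem_antidiagonal.mpr (zero_add _)) h
  · intro b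
    have := h0 b
    rw [← coeff_zero_eq_constantCoeff_apply, coeff_pderiv] at this
    simpa using this

theorem low_rest (hf0 : constantCoeff f = 0) (h1 : ∀ b, coeff (single b 1) f = 0) :
    Low 3 (f - qAt f (fun a => X a) fun a => X a) := by
  classical
  intro m hm
  have hq : coeff m (qAt f (fun a => X a) fun a => X a) =
      ∑ a, ∑ b, Qm f a b * if m = single a 1 + single b 1 then 1 else 0 := by
    simp only [qAt, map_sum, map_smul, X_def, monomial_mul_monomial, mul_one, coeff_monomial,
      smul_eq_mul]
  rw [map_sub, hq, sub_eq_zero]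
  rcases Nat.lt_or_ge m.degree 2 with h | h
  · have : ∀ a b : Fin n, m ≠ single a 1 + single b 1 := fun a b e => by
      rw [e, map_add, Finsupp.degree_single, Finsupp.degree_single] at h; lia
    simp only [this, if_false, mul_zero, Finset.sum_const_zero]
    rcases Nat.eq_zero_or_pos m.degree with h' | h'
    · rw [(Finsupp.degree_eq_zero_iff m).mp h', coeff_zero_eq_constantCoeff_apply, hf0]
    · obtain ⟨i, hi⟩ : ∃ i, single i 1 = m := by
        obtain ⟨i, hi⟩ : ∃ i, m i ≠ 0 := by
          by_contra! hh; rw [(Finsupp.ext hh : m = 0)] at h'; simp at h'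
        refine ⟨i, ?_⟩
        have hle : single i 1 ≤ m := Finsupp.single_le_iff.mpr (Nat.one_le_iff_ne_zero.mpr hi)
        obtain ⟨c, hc⟩ := exists_add_of_le hle
        have : c.degree = 0 := by rw [hc, map_add, Finsupp.degree_single] at h; lia
        rw [hc, (Finsupp.degree_eq_zero_iff c).mp this, add_zero]
      rw [← hi]; exact h1 i
  · have h2 : m.degree = 2 := by lia
    obtain ⟨a, b, hab, hm'⟩ : ∃ a b, a ≤ b ∧ m = single a 1 + single b 1 := by
      obtain ⟨a, ha⟩ : ∃ a, m a ≠ 0 := by
        by_contra! hh; rw [(Finsupp.ext hh : m = 0)] at h2; simp at h2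
      obtain ⟨c, hc⟩ := exists_add_of_le
        (Finsupp.single_le_iff.mpr (Nat.one_le_iff_ne_zero.mpr ha) : single a 1 ≤ m)
      have hcd : c.degree = 1 := by rw [hc, map_add, Finsupp.degree_single] at h2; lia
      obtain ⟨b, hb⟩ : ∃ b, c b ≠ 0 := by
        by_contra! hh; rw [(Finsupp.ext hh : c = 0)] at hcd; simp at hcd
      obtain ⟨c', hc'⟩ := exists_add_of_le
        (Finsupp.single_le_iff.mpr (Nat.one_le_iff_ne_zero.mpr hb) : single b 1 ≤ c)
      have : c'.degree = 0 := by rw [hc', map_add, Finsupp.degree_single] at hcd; lia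
      rw [(Finsupp.degree_eq_zero_iff c').mp this, add_zero] at hc'
      rcases le_total a b with hle | hle
      · exact ⟨a, b, hle, by rw [hc, hc']⟩
      · exact ⟨b, a, hle, by rw [hc, hc', add_comm]⟩
    have huniq : ∀ x y : Fin n, x ≤ y → m = single x 1 + single y 1 → x = a ∧ y = b := by
      intro x y hxy e
      rcases Finsupp.single_add_single_eq_single_add_single (one_ne_zero) (one_ne_zero) |>.mp
        (e.symm.trans hm') with h | h | h
      · exact ⟨h.1, h.2⟩
      · obtain ⟨-, hx, hy⟩ := h
        rw [hx, hy] at hxy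
        have hab' := le_antisymm hab hxy
        exact ⟨hx.trans hab'.symm, hy.trans hab'⟩
      · exact absurd h.1 (by norm_num)
    rw [Finset.sum_eq_single a, Finset.sum_eq_single b, if_pos hm', mul_one, Qm, if_pos hab, hm']
    · intro y _ hy
      by_cases hle : a ≤ y
      · rw [if_neg fun e => hy (huniq a y hle e).2, mul_zero]
      · rw [Qm, if_neg hle, zero_mul]
    · exact fun h => absurd (Finset.mem_univ _) h
    · intro x _ hx
      refine Finset.sum_eq_zero fun y _ => ?_
      by_cases hle : x ≤ y
      · rw [if_neg fun e => hx (huniq x y hle e).1, mul_zero]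
      · rw [Qm, if_neg hle, zero_mul]
    · exact fun h => absurd (Finset.mem_univ _) h

/-- The map whose fixed point solves the equation. -/
noncomputable def T (G : Matrix (Fin n) (Fin n) k) (ε : Fin n → P) (i : Fin n) : P :=
  ∑ j, G j i • div j (f - (qAt f (fun a => X a) fun a => X a) - qAt f ε ε)

theorem low_qAt {p r : ℕ} {u v : Fin n → P} (hu : ∀ a, Low p (u a)) (hv : ∀ a, Low r (v a)) :
    Low (p + r) (qAt f u v) :=
  Low.sum fun a _ => Low.sum fun b _ => ((hu a).mul (hv b)).smul _

theorem low_T (G : Matrix (Fin n) (Fin n) k)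
    (h3 : Low 3 (f - qAt f (fun a => X a) fun a => X a)) {ε : Fin n → P} (hε : ∀ a, Low 2 (ε a))
    (i : Fin n) : Low 2 (T f G ε i) :=
  Low.sum fun j _ => (Low.div (fun m hm => by
    rw [map_sub, h3 m hm, low_qAt f hε hε m (by lia), sub_zero]) j).smul _

theorem low_T_sub (G : Matrix (Fin n) (Fin n) k) {ε ε' : Fin n → P} {d : ℕ}
    (hε : ∀ a, Low 2 (ε a)) (hε' : ∀ a, Low 2 (ε' a)) (hd : ∀ a, Low d (ε a - ε' a)) (i : Fin n) :
    Low (d + 1) (T f G ε i - T f G ε' i) := by
  have e : T f G ε i - T f G ε' i = ∑ j, G j i • div j (qAt f ε' ε' - qAt f ε ε) := by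
    rw [T, T, ← Finset.sum_sub_distrib]
    refine Finset.sum_congr rfl fun j _ => ?_
    rw [← smul_sub, ← div_sub]
    congr 2
    ring
  rw [e]
  refine Low.sum fun j _ => (Low.div (d := d + 1) ?_ j).smul _
  have e' : qAt f ε' ε' - qAt f ε ε =
      -(qAt f ε' (fun a => ε a - ε' a)) - qAt f (fun a => ε a - ε' a) ε := by
    simp only [qAt, ← Finset.sum_sub_distrib, ← Finset.sum_neg_distrib, ← smul_neg, ← smul_sub]
    exact Finset.sum_congr rfl fun a _ => Finset.sum_congr rfl fun b _ => by congr 1; ring
  intro m hm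
  rw [e', map_sub, map_neg, low_qAt f hε' hd m (by lia), low_qAt f hd hε m (by lia)]
  simp

theorem exists_eq_qAt (hf0 : constantCoeff f = 0)
    (hJ : Ideal.span (Set.range fun i : Fin n => pderiv k i f) = IsLocalRing.maximalIdeal (MvPowerSeries (Fin n) k)) :
    ∃ ε : Fin n → P, (∀ i, Low 2 (ε i)) ∧ f = qAt f (fun a => X a + ε a) (fun a => X a + ε a) := by
  classical
  obtain ⟨hdet, h1⟩ := isUnit_M f hJ
  let G := (M f)⁻¹
  have h3 := low_rest f hf0 h1
  let seq : ℕ → Fin n → P := fun t => (T f G)^[t] 0
  have hseq : ∀ t a, Low 2 (seq t a) := by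
    intro t
    induction t with
    | zero => exact fun a m _ => by simp [seq]
    | succ t ih =>
      intro a
      simp only [seq, Function.iterate_succ', Function.comp]
      exact low_T f G h3 ih a
  have hcauchy : ∀ t a, Low t (seq (t + 1) a - seq t a) := by
    intro t
    induction t with
    | zero => exact fun a m hm => absurd hm (Nat.not_lt_zero _)
    | succ t ih =>
      intro a
      have e : ∀ s, seq (s + 1) = T f G (seq s) := fun s => Function.iterate_succ_apply' _ _ _
      rw [e (t + 1)]
      nth_rewrite 2 [e t]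
      exact low_T_sub f G (hseq _) (hseq _) ih a
  let ε : Fin n → P := fun a => fun m => coeff m (seq (m.degree + 1) a)
  have hε : ∀ t a, Low t (ε a - seq t a) := by
    intro t a m hm
    have hstab : ∀ s, m.degree + 1 ≤ s → coeff m (seq s a) = coeff m (seq (m.degree + 1) a) := by
      intro s hs
      induction hs with
      | refl => rfl
      | step hs ih =>
        have := hcauchy _ a m (Nat.lt_of_succ_le hs)
        rw [map_sub, sub_eq_zero] at this
        exact this.trans ih
    rw [map_sub, sub_eq_zero, hstab t hm]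
    rfl
  have hε2 : ∀ a, Low 2 (ε a) := fun a m hm => hseq _ a m hm
  have hfix : ∀ i, ε i = T f G ε i := by
    intro i
    ext m
    have h1' := hε (m.degree + 2) i m (by lia)
    have h2' := low_T_sub f G hε2 (hseq (m.degree + 1)) (hε (m.degree + 1)) i m (by lia)
    rw [map_sub, sub_eq_zero] at h1' h2'
    rw [h1', h2']
    simp only [seq, Function.iterate_succ_apply']
  refine ⟨ε, hε2, ?_⟩
  let w := f - (qAt f (fun a => X a) fun a => X a) - qAt f ε ε
  have hw : constantCoeff w = 0 := by
    rw [← coeff_zero_eq_constantCoeff_apply, map_sub, h3 0 (by simp),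
      low_qAt f hε2 hε2 0 (by simp), sub_zero]
  have hl : (qAt f ε fun a => X a) + qAt f (fun a => X a) ε = w := by
    calc (qAt f ε fun a => X a) + qAt f (fun a => X a) ε
        = ∑ a, ∑ b, M f a b • (ε a * X b) := by
          simp only [qAt, M, Matrix.of_apply, add_smul, Finset.sum_add_distrib]
          congr 1
          rw [Finset.sum_comm]
          exact Finset.sum_congr rfl fun a _ => Finset.sum_congr rfl fun b _ => by rw [mul_comm]
      _ = ∑ b, ∑ j, (∑ a, G j a * M f a b) • (div j w * X b) := by
          rw [Finset.sum_comm]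
          refine Finset.sum_congr rfl fun b _ => ?_
          simp only [Finset.sum_smul]
          rw [Finset.sum_comm (γ := Fin n)]
          refine Finset.sum_congr rfl fun a _ => ?_
          rw [hfix a, T, Finset.sum_mul, Finset.smul_sum]
          refine Finset.sum_congr rfl fun j _ => ?_
          rw [smul_mul_assoc, smul_smul, mul_comm (M f a b)]
      _ = ∑ b, ∑ j, (if j = b then (1 : k) else 0) • (div j w * X b) := by
          refine Finset.sum_congr rfl fun b _ => Finset.sum_congr rfl fun j _ => ?_
          congr 1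
          have := congrFun (congrFun (Matrix.nonsing_inv_mul (M f) hdet) j) b
          rw [Matrix.mul_apply, Matrix.one_apply] at this
          exact this
      _ = ∑ b, X b * div b w := by
          refine Finset.sum_congr rfl fun b _ => ?_
          simp [mul_comm]
      _ = w := sum_X_mul_div w hw
  have hexp : qAt f (fun a => X a + ε a) (fun a => X a + ε a) = (qAt f (fun a => X a) fun a => X a) +
      ((qAt f ε fun a => X a) + qAt f (fun a => X a) ε) + qAt f ε ε := by
    simp only [qAt, ← Finset.sum_add_distrib, ← smul_add]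
    exact Finset.sum_congr rfl fun a _ => Finset.sum_congr rfl fun b _ => by congr 1; ring
  rw [hexp, hl]
  ring

theorem morse (hf0 : constantCoeff f = 0)
    (hJ : Ideal.span (Set.range fun i : Fin n => pderiv k i f) = IsLocalRing.maximalIdeal (MvPowerSeries (Fin n) k)) :
    ∃ (ε : Fin n → P) (_ : ∀ i (m : Fin n →₀ ℕ), m.degree < 2 → coeff m (ε i) = 0)
      (q : MvPolynomial (Fin n) k) (_ : q.IsHomogeneous 2)
      (_ : HasSubst (fun i : Fin n => X i + ε i)),
      f = subst (fun i : Fin n => X i + ε i) (q : MvPowerSeries (Fin n) k) := by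
  obtain ⟨ε, hε, he⟩ := exists_eq_qAt f hf0 hJ
  have hs : HasSubst (fun i : Fin n => X i + ε i) := hasSubst_of_constantCoeff_zero fun i => by
    rw [map_add, constantCoeff_X, zero_add, ← coeff_zero_eq_constantCoeff_apply, hε i 0 (by simp)]
  refine ⟨ε, hε, ∑ a, ∑ b, Qm f a b • (MvPolynomial.X a * MvPolynomial.X b), ?_, hs, ?_⟩
  · refine MvPolynomial.IsHomogeneous.sum _ _ _ fun a _ => MvPolynomial.IsHomogeneous.sum _ _ _
      fun b _ => ?_
    rw [MvPolynomial.smul_eq_C_mul]
    exact ((MvPolynomial.isHomogeneous_X k a).mul (MvPolynomial.isHomogeneous_X k b)).C_mul _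
  · rw [subst_coe]
    · simp only [map_sum, map_smul, map_mul, MvPolynomial.aeval_X]
      exact he

end Groth.Agent.SGA7Morse
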